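import Groth.Agent.S2157
import Groth.Agent.Lib.IdealModSec.Basic
import Groth.Agent.Lib.OmegaAff.Basic
import Groth.Agent.Lib.QCoh.Filtration
import Groth.Agent.Lib.QCoh.FT
import Groth.Agent.Lib.VA.VeryAmple
import Groth.Agent.Lib.FittSheaf.Pullback
import Mathlib.AlgebraicGeometry.IdealSheaf.Functorial
import Mathlib.RingTheory.Kaehler.Basic
import Mathlib.AlgebraicGeometry.Morphisms.QuasiSeparated
import Mathlib.AlgebraicGeometry.Morphisms.FiniteType

/-!
# The sheaf of differentials (conormal sheaf of the diagonal) on affine opens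
-/

set_option autoImplicit false
set_option linter.all false
universe u

open CategoryTheory CategoryTheory.Limits AlgebraicGeometry Opposite

namespace GrothLib.OmegaSheaf

/-- The ideal module restricts to the ideal module of the restricted ideal. -/
theorem nonempty_restrict_idealMod {Y V : Scheme.{u}} (k : V ⟶ Y) [IsOpenImmersion k]
    (I : Y.IdealSheafData) (J : V.IdealSheafData)
    (hIJ : ∀ W : V.affineOpens, J.ideal W =
      (I.ideal ⟨k ''ᵁ W, W.2.image_of_isOpenImmersion _⟩).comap (k.appIso W).inv.hom) :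
    Nonempty ((ClSub.idealMod I).restrict k ≅ ClSub.idealMod J) := by
  haveI := OmegaAff.isQuasicoherent_idealMod I
  haveI := OmegaAff.isQuasicoherent_idealMod J
  let ι1 : (ClSub.idealMod I).restrict k ⟶ Coh.structureModule V :=
    (Scheme.Modules.restrictFunctor k).map (ClSub.idealModι I) ≫ (Scheme.Modules.restrictUnitIso k).hom
  have happ : ∀ (W : V.Opens) (m : Γ((ClSub.idealMod I).restrict k, W)),
      ι1.app W m = (k.appIso W).hom (IdealModSec.val I (k ''ᵁ W) m) := fun W m => rfl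
  have hmem : ∀ (W : V.affineOpens) (m : Γ((ClSub.idealMod I).restrict k, W.1)),
      (k.appIso W).hom (IdealModSec.val I (k ''ᵁ W.1) m) ∈ J.ideal W := by
    intro W m
    rw [hIJ, Ideal.mem_comap]
    have h := IdealModSec.val_mem I ⟨k ''ᵁ W.1, W.2.image_of_isOpenImmersion _⟩ m
    rwa [show (k.appIso W).inv.hom ((k.appIso W).hom (IdealModSec.val I (k ''ᵁ W.1) m)) =
      IdealModSec.val I (k ''ᵁ W.1) m from Iso.hom_inv_id_apply _ _]
  have h0 : ι1 ≫ ClSub.toSubscheme J = 0 := by
    refine VA.hom_ext_affine fun U e => ?_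
    show J.subschemeι.app U.1 (ι1.app U.1 e) = 0
    rw [happ, ← RingHom.mem_ker]
    exact (J.ker_subschemeι_app ⟨U.1, U.2⟩).ge (hmem ⟨U.1, U.2⟩ e)
  let L : (ClSub.idealMod I).restrict k ⟶ ClSub.idealMod J := kernel.lift _ ι1 h0
  have hL : ∀ (W : V.Opens) (m : Γ((ClSub.idealMod I).restrict k, W)),
      IdealModSec.val J W (L.app W m) = (k.appIso W).hom (IdealModSec.val I (k ''ᵁ W) m) := by
    intro W m
    show (L ≫ ClSub.idealModι J).app W m = _
    rw [show L ≫ ClSub.idealModι J = ι1 from kernel.lift_ι _ _ _]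
    exact happ W m
  haveI : IsIso L := by
    refine QCoh.isIso_of_bijective_on_cover L (fun W : V.affineOpens => W.1)
      (iSup_affineOpens_eq_top V) (fun W => W.2) fun W => ⟨fun a b h => ?_, fun c => ?_⟩
    · have h' := congrArg (IdealModSec.val J W.1) h
      rw [hL, hL] at h'
      exact IdealModSec.val_injective I _ ((k.appIso W).commRingCatIsoToRingEquiv.injective h')
    · have hc := IdealModSec.val_mem J W c
      rw [hIJ, Ideal.mem_comap] at hc
      obtain ⟨m, hm⟩ := IdealModSec.exists_val_eq I ⟨k ''ᵁ W.1, W.2.image_of_isOpenImmersion _⟩ hc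
      refine ⟨m, IdealModSec.val_injective J W.1 ?_⟩
      exact ((hL W.1 m).trans (congrArg (k.appIso W.1).hom hm)).trans (Iso.inv_hom_id_apply _ _)
  exact ⟨asIso L⟩

/-- The conormal module commutes with open restriction. -/
theorem nonempty_pullback_conormal {Z Z' P P' : Scheme.{u}} (i : Z ⟶ P) [QuasiCompact i]
    (i' : Z' ⟶ P') (j : Z' ⟶ Z) (k : P' ⟶ P) [IsOpenImmersion k] (H : IsPullback i' j k i) :
    Nonempty ((Scheme.Modules.pullback j).obj (Omega.conormal i) ≅ Omega.conormal i') := by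
  obtain ⟨e⟩ := nonempty_restrict_idealMod k i.ker i'.ker
    (Scheme.ker_ideal_of_isPullback_of_isOpenImmersion i i' j k H)
  exact ⟨(Scheme.Modules.pullbackComp j i).app (ClSub.idealMod i.ker) ≪≫
    (Scheme.Modules.pullbackCongr H.w.symm).app (ClSub.idealMod i.ker) ≪≫
    ((Scheme.Modules.pullbackComp i' k).app (ClSub.idealMod i.ker)).symm ≪≫
    (Scheme.Modules.pullback i').mapIso
      (((Scheme.Modules.restrictFunctorIsoPullback k).app (ClSub.idealMod i.ker)).symm ≪≫ e)⟩

variable {X S : Scheme.{u}}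

/-- Differentials are local on the source. -/
theorem nonempty_pullback_sheaf {U : Scheme.{u}} (j : U ⟶ X) [IsOpenImmersion j] (f : X ⟶ S)
    [QuasiSeparated f] :
    Nonempty ((Scheme.Modules.pullback j).obj (Omega.sheaf f) ≅ Omega.sheaf (j ≫ f)) := by
  let k : pullback (j ≫ f) (j ≫ f) ⟶ pullback f f :=
    pullback.map (j ≫ f) (j ≫ f) f f j j (𝟙 S) (Category.comp_id _) (Category.comp_id _)
  refine nonempty_pullback_conormal (pullback.diagonal f) (pullback.diagonal (j ≫ f)) j k ?_
  have kf : k ≫ pullback.fst f f = pullback.fst _ _ ≫ j := pullback.lift_fst _ _ _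
  have ks : k ≫ pullback.snd f f = pullback.snd _ _ ≫ j := pullback.lift_snd _ _ _
  have w : pullback.diagonal (j ≫ f) ≫ k = j ≫ pullback.diagonal f := by
    apply pullback.hom_ext <;> simp [kf, ks]
  have hfst : ∀ {T : Scheme.{u}} (a : T ⟶ pullback (j ≫ f) (j ≫ f)) (b : T ⟶ X),
      a ≫ k = b ≫ pullback.diagonal f → a ≫ pullback.fst _ _ ≫ j = b ∧ a ≫ pullback.snd _ _ ≫ j = b := by
    intro T a b h
    exact ⟨by simpa [kf, ks] using congrArg (· ≫ pullback.fst f f) h,
      by simpa [kf, ks] using congrArg (· ≫ pullback.snd f f) h⟩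
  refine ⟨⟨w⟩, ⟨PullbackCone.IsLimit.mk w (fun s => s.fst ≫ pullback.fst _ _) (fun s => ?_) (fun s => ?_)
    (fun s m h1 h2 => ?_)⟩⟩
  · obtain ⟨h1, h2⟩ := hfst s.fst s.snd s.condition
    apply pullback.hom_ext
    · simp
    · simp only [Category.assoc, pullback.diagonal_snd, Category.comp_id]
      rw [← cancel_mono j, Category.assoc, Category.assoc]
      exact h1.trans h2.symm
  · simpa using (hfst s.fst s.snd s.condition).1
  · rw [← h1]; simp

/-- Differentials only depend on the map to an open piece of the base. -/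
theorem nonempty_sheaf_comp {S' : Scheme.{u}} (g : X ⟶ S') (v : S' ⟶ S) [IsOpenImmersion v]
    [QuasiSeparated g] : Nonempty (Omega.sheaf (g ≫ v) ≅ Omega.sheaf g) := by
  let k : pullback g g ⟶ pullback (g ≫ v) (g ≫ v) :=
    pullback.map g g (g ≫ v) (g ≫ v) (𝟙 X) (𝟙 X) v (Category.id_comp _).symm (Category.id_comp _).symm
  have kf : k ≫ pullback.fst (g ≫ v) (g ≫ v) = pullback.fst g g := (pullback.lift_fst _ _ _).trans (Category.comp_id _)
  have ks : k ≫ pullback.snd (g ≫ v) (g ≫ v) = pullback.snd g g := (pullback.lift_snd _ _ _).trans (Category.comp_id _)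
  have w : pullback.diagonal g ≫ k = 𝟙 X ≫ pullback.diagonal (g ≫ v) := by
    apply pullback.hom_ext <;> simp [kf, ks]
  haveI : IsIso k := by
    refine ⟨pullback.lift (pullback.fst _ _) (pullback.snd _ _) ?_, ?_, ?_⟩
    · rw [← cancel_mono v, Category.assoc, Category.assoc]
      exact pullback.condition
    · apply pullback.hom_ext
      · rw [Category.assoc, Category.id_comp]; exact (congrArg (k ≫ ·) (pullback.lift_fst _ _ _)).trans kf
      · rw [Category.assoc, Category.id_comp]; exact (congrArg (k ≫ ·) (pullback.lift_snd _ _ _)).trans ks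
    · apply pullback.hom_ext
      · rw [Category.assoc, kf, Category.id_comp]; exact pullback.lift_fst _ _ _
      · rw [Category.assoc, ks, Category.id_comp]; exact pullback.lift_snd _ _ _
  obtain ⟨e⟩ := nonempty_pullback_conormal (pullback.diagonal (g ≫ v)) (pullback.diagonal g) (𝟙 X) k
    (IsPullback.of_vert_isIso ⟨w⟩).flip.flip
  exact ⟨((Scheme.Modules.pullbackId X).app _).symm ≪≫ e⟩

/-- The sheaf of differentials is quasi-coherent. -/
theorem isQuasicoherent_sheaf (f : X ⟶ S) [QuasiSeparated f] : (Omega.sheaf f).IsQuasicoherent := by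
  haveI := OmegaAff.isQuasicoherent_idealMod (pullback.diagonal f).ker
  exact FittSheaf.isQuasicoherent_pullback (pullback.diagonal f) _

/-- Sections of the sheaf of differentials on affine opens. -/
theorem nonempty_sections_equiv (f : X ⟶ S) [QuasiSeparated f] {U : X.Opens} {V : S.Opens}
    (hU : IsAffineOpen U) (hV : IsAffineOpen V) (hUV : U ≤ f ⁻¹ᵁ V) :
    letI := (f.appLE V U hUV).hom.toAlgebra
    Nonempty (Γ(Omega.sheaf f, U) ≃ₗ[Γ(X, U)] KaehlerDifferential Γ(S, V) Γ(X, U)) := by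
  letI := (f.appLE V U hUV).hom.toAlgebra
  haveI := isQuasicoherent_sheaf f
  obtain ⟨e₁⟩ := nonempty_pullback_sheaf hU.fromSpec f
  obtain ⟨e₂⟩ := nonempty_sheaf_comp (Spec.map (f.appLE V U hUV)) hV.fromSpec
  obtain ⟨e₃⟩ := Groth.Agent.S2157.result Γ(S, V) Γ(X, U)
  let e₁₂ : (Omega.sheaf f).restrict hU.fromSpec ≅
      tilde (R := CommRingCat.of Γ(X, U)) (ModuleCat.of Γ(X, U) (KaehlerDifferential Γ(S, V) Γ(X, U))) :=
    (Scheme.Modules.restrictFunctorIsoPullback hU.fromSpec).app (Omega.sheaf f) ≪≫ e₁ ≪≫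
      eqToIso (congrArg Omega.sheaf (IsAffineOpen.SpecMap_appLE_fromSpec f hV hU hUV).symm) ≪≫ e₂ ≪≫ e₃
  exact ⟨(QCoh.topLinearEquiv hU (Omega.sheaf f)).symm.trans
    (((moduleSpecΓFunctor (R := CommRingCat.of Γ(X, U))).mapIso e₁₂ ≪≫
      (tilde.toTildeΓNatIso.app _).symm).toLinearEquiv)⟩

/-- For a locally of finite type morphism the sheaf of differentials is of finite type. -/
theorem isFT_sheaf (f : X ⟶ S) [LocallyOfFiniteType f] [QuasiSeparated f] : CohB1.IsFT (Omega.sheaf f) := by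
  haveI := isQuasicoherent_sheaf f
  have hc : ∀ x : X, ∃ (U : X.Opens) (V : S.Opens), IsAffineOpen U ∧ IsAffineOpen V ∧ x ∈ U ∧ U ≤ f ⁻¹ᵁ V := by
    intro x
    obtain ⟨V, hV, hxV, -⟩ := exists_isAffineOpen_mem_and_subset (x := f.base x) (U := ⊤) trivial
    obtain ⟨U, hU, hxU, hUV⟩ := exists_isAffineOpen_mem_and_subset (x := x) (U := f ⁻¹ᵁ V) hxV
    exact ⟨U, V, hU, hV, hxU, hUV⟩
  choose U V hU hV hxU hUV using hc
  refine QCoh.isFiniteType_of_moduleFinite (Omega.sheaf f) U
    (TopologicalSpace.IsOpenCover.mk (eq_top_iff.mpr fun x _ => TopologicalSpace.Opens.mem_iSup.mpr ⟨x, hxU x⟩))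
    hU fun x => ?_
  letI := (f.appLE (V x) (U x) (hUV x)).hom.toAlgebra
  haveI : Algebra.FiniteType Γ(S, V x) Γ(X, U x) :=
    HasRingHomProperty.appLE @LocallyOfFiniteType f inferInstance ⟨V x, hV x⟩ ⟨U x, hU x⟩ (hUV x)
  obtain ⟨e⟩ := nonempty_sections_equiv f (hU x) (hV x) (hUV x)
  exact Module.Finite.equiv e.symm

end GrothLib.OmegaSheaf
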